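import Groth.Agent.IdealStalkLib.Cartier
/-!
The ideal sheaf of an effective cycle supported at points with discrete valuation local rings.
-/

set_option backward.isDefEq.respectTransparency false
set_option backward.isDefEq.respectTransparency.types false

universe u

open CategoryTheory AlgebraicGeometry IsLocalRing

noncomputable section

namespace Groth.Agent.EffCycIdLib

variable {X : Scheme.{u}}

theorem le_primeIdeal_iff {U : X.Opens} (hU : IsAffineOpen U) {x y : X} (hx : x ∈ U) (hy : y ∈ U) :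
    (hU.primeIdealOf ⟨y, hy⟩).asIdeal ≤ (hU.primeIdealOf ⟨x, hx⟩).asIdeal ↔ y ⤳ x := by
  refine ⟨fun h => ?_, fun h => ?_⟩
  · have := Specializes.map ((PrimeSpectrum.le_iff_specializes _ _).1 h) hU.fromSpec.continuous
    rwa [hU.fromSpec_primeIdealOf, hU.fromSpec_primeIdealOf] at this
  · refine (PrimeSpectrum.le_iff_specializes _ _).2 (hU.fromSpec.isOpenEmbedding.isInducing.specializes_iff.1 ?_)
    rwa [hU.fromSpec_primeIdealOf, hU.fromSpec_primeIdealOf]

theorem mem_prime_iff {U : X.Opens} (hU : IsAffineOpen U) {x : X} (hx : x ∈ U) (r : Γ(X, U)) :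
    r ∈ (hU.primeIdealOf ⟨x, hx⟩).asIdeal ↔ X.presheaf.germ U x hx r ∈ maximalIdeal (X.presheaf.stalk x) := by
  letI : Algebra Γ(X, U) (X.presheaf.stalk x) := TopCat.Presheaf.algebra_section_stalk X.presheaf ⟨x, hx⟩
  haveI := hU.isLocalization_stalk ⟨x, hx⟩
  exact (IsLocalization.AtPrime.to_map_mem_maximal_iff (X.presheaf.stalk x) _ r).symm

theorem exists_germ_mul {U : X.Opens} (hU : IsAffineOpen U) {x : X} (hx : x ∈ U) (ξ : X.presheaf.stalk x) :
    ∃ r t : Γ(X, U), IsUnit (X.presheaf.germ U x hx t) ∧ ξ * X.presheaf.germ U x hx t = X.presheaf.germ U x hx r := by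
  letI : Algebra Γ(X, U) (X.presheaf.stalk x) := TopCat.Presheaf.algebra_section_stalk X.presheaf ⟨x, hx⟩
  haveI := hU.isLocalization_stalk ⟨x, hx⟩
  obtain ⟨⟨r, t⟩, h⟩ := IsLocalization.surj (hU.primeIdealOf ⟨x, hx⟩).asIdeal.primeCompl ξ
  exact ⟨r, t, IsLocalization.map_units (X.presheaf.stalk x) t, h⟩

theorem exists_mul_mem {U : X.Opens} (hU : IsAffineOpen U) {x : X} (hx : x ∈ U) (I : Ideal Γ(X, U)) {s : Γ(X, U)}
    (h : X.presheaf.germ U x hx s ∈ I.map (X.presheaf.germ U x hx).hom) :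
    ∃ u : Γ(X, U), IsUnit (X.presheaf.germ U x hx u) ∧ u * s ∈ I := by
  letI : Algebra Γ(X, U) (X.presheaf.stalk x) := TopCat.Presheaf.algebra_section_stalk X.presheaf ⟨x, hx⟩
  haveI := hU.isLocalization_stalk ⟨x, hx⟩
  obtain ⟨u, hu, h'⟩ := (IsLocalization.algebraMap_mem_map_algebraMap_iff (hU.primeIdealOf ⟨x, hx⟩).asIdeal.primeCompl
    (X.presheaf.stalk x) I s).1 h
  exact ⟨u, IsLocalization.map_units (X.presheaf.stalk x) ⟨u, hu⟩, h'⟩

variable (W : X → ℤ)

/-- Sections with vanishing order at least `W` at every point of the support of `W`. -/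
def idealOn (U : X.Opens) : Ideal Γ(X, U) :=
  ⨅ (y : {y : X // W y ≠ 0}) (h : y.1 ∈ U),
    (maximalIdeal (X.presheaf.stalk y.1) ^ (W y.1).toNat).comap (X.presheaf.germ U y.1 h).hom

theorem mem_idealOn {U : X.Opens} {s : Γ(X, U)} :
    s ∈ idealOn W U ↔ ∀ (y : X) (_ : W y ≠ 0) (hy : y ∈ U),
      X.presheaf.germ U y hy s ∈ maximalIdeal (X.presheaf.stalk y) ^ (W y).toNat := by
  simp only [idealOn, Submodule.mem_iInf, Ideal.mem_comap, Subtype.forall]

variable (hfin : {x | W x ≠ 0}.Finite)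
include hfin

theorem exists_sep {U : X.Opens} (hU : IsAffineOpen U) {x : X} (hx : x ∈ U) :
    ∃ u : Γ(X, U), IsUnit (X.presheaf.germ U x hx u) ∧ ∀ (y : X) (_ : W y ≠ 0) (hy : y ∈ U), ¬ y ⤳ x →
      X.presheaf.germ U y hy u ∈ maximalIdeal (X.presheaf.stalk y) ^ (W y).toNat := by
  classical
  let T := hfin.toFinset.filter fun y => y ∈ U ∧ ¬ y ⤳ x
  have hT : ∀ y, y ∈ T ↔ W y ≠ 0 ∧ y ∈ U ∧ ¬ y ⤳ x := by simp [T]
  have hex : ∀ y : T, ∃ v : Γ(X, U), IsUnit (X.presheaf.germ U x hx v) ∧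
      X.presheaf.germ U y.1 ((hT _).1 y.2).2.1 v ∈ maximalIdeal (X.presheaf.stalk y.1) := fun y => by
    obtain ⟨-, hy, hns⟩ := (hT _).1 y.2
    obtain ⟨v, hv, hv'⟩ := SetLike.not_le_iff_exists.1 (mt (le_primeIdeal_iff hU hx hy).1 hns)
    exact ⟨v, notMem_maximalIdeal.1 fun h => hv' ((mem_prime_iff hU hx v).2 h), (mem_prime_iff hU hy v).1 hv⟩
  choose v hv hv' using hex
  refine ⟨∏ y : T, v y ^ (W y.1).toNat, ?_, fun y hWy hy hns => ?_⟩
  · rw [map_prod, IsUnit.prod_univ_iff]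
    exact fun y => by rw [map_pow]; exact (hv y).pow _
  · have hyT : y ∈ T := (hT y).2 ⟨hWy, hy, hns⟩
    rw [← Finset.mul_prod_erase _ _ (Finset.mem_univ (⟨y, hyT⟩ : T)), map_mul, map_pow]
    exact Ideal.mul_mem_right _ _ (Ideal.pow_mem_pow (hv' ⟨y, hyT⟩) _)

/-- The ideal sheaf of the cycle `W`. -/
def cycIdeal : X.IdealSheafData where
  ideal U := idealOn W (U : X.Opens)
  map_ideal_basicOpen U r := by
    classical
    refine le_antisymm (Ideal.map_le_iff_le_comap.2 fun s hs => ?_) fun t ht => ?_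
    · rw [Ideal.mem_comap, mem_idealOn]
      intro y hWy hy
      have hg := TopCat.Presheaf.germ_res_apply X.presheaf (homOfLE (X.basicOpen_le r)) y hy s
      exact hg ▸ (mem_idealOn W).1 hs y hWy _
    · obtain ⟨U, hU⟩ := U
      let φ := (X.presheaf.map (homOfLE (X.basicOpen_le r)).op).hom
      haveI := hU.isLocalization_basicOpen r
      obtain ⟨⟨s, _, n, rfl⟩, hs⟩ := IsLocalization.surj (Submonoid.powers r) (S := Γ(X, X.basicOpen r)) t
      replace hs : t * φ (r ^ n) = φ s := hs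
      let N := hfin.toFinset.sup fun y => (W y).toNat
      have hmem : r ^ N * s ∈ idealOn W U := by
        rw [mem_idealOn]
        intro y hWy hy
        rw [map_mul]
        by_cases hyr : y ∈ X.basicOpen r
        · refine Ideal.mul_mem_left _ _ ?_
          have h1 := congrArg (X.presheaf.germ (X.basicOpen r) y hyr) hs
          rw [map_mul] at h1
          simp only [φ, TopCat.Presheaf.germ_res_apply] at h1
          rw [← h1]
          exact Ideal.mul_mem_right _ _ ((mem_idealOn W).1 ht y hWy hyr)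
        · refine Ideal.mul_mem_right _ _ ?_
          rw [map_pow]
          refine Ideal.pow_le_pow_right (Finset.le_sup (f := fun y => (W y).toNat) (hfin.mem_toFinset.2 hWy)) (Ideal.pow_mem_pow ?_ _)
          exact (mem_maximalIdeal _).2 fun h => hyr ((X.mem_basicOpen r y hy).2 h)
      have hu : IsUnit (φ (r ^ (N + n))) := IsLocalization.map_units (Γ(X, X.basicOpen r)) (⟨r ^ (N + n), _, rfl⟩ : Submonoid.powers r)
      refine (Ideal.mul_unit_mem_iff_mem _ hu).1 ?_
      rw [show t * φ (r ^ (N + n)) = φ (r ^ N * s) by rw [map_mul, ← hs, pow_add, map_mul]; ring]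
      exact Ideal.mem_map_of_mem _ hmem

theorem cycIdeal_ideal (U : X.affineOpens) : (cycIdeal W hfin).ideal U = idealOn W (U : X.Opens) := rfl

theorem exists_support_specializes {x : X} (hx : x ∈ (cycIdeal W hfin).support) :
    ∃ y, W y ≠ 0 ∧ y ⤳ x := by
  obtain ⟨U, hU, hxU, -⟩ := exists_isAffineOpen_mem_and_subset (X := X) (x := x) (U := ⊤) trivial
  by_contra! h
  obtain ⟨u, hu, hu'⟩ := exists_sep W hfin hU hxU
  have h1 : u ∈ idealOn W U := (mem_idealOn W).2 fun y hWy hy => hu' y hWy hy (h y hWy)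
  have h2 : X.presheaf.germ U x hxU u ∈ IntMult.stalkIdeal (cycIdeal W hfin) x := by
    rw [IdealStalkLib.stalkIdeal_eq _ ⟨U, hU⟩ x hxU]
    exact Ideal.mem_map_of_mem _ h1
  exact (mem_maximalIdeal _).1 (IdealStalkLib.stalkIdeal_le_maximal _ hx h2) hu

variable (hmin : ∀ x y : X, W x ≠ 0 → W y ≠ 0 → y ⤳ x → y = x)
include hmin

theorem stalkIdeal_cycIdeal {x : X} (hWx : W x ≠ 0) :
    IntMult.stalkIdeal (cycIdeal W hfin) x = maximalIdeal (X.presheaf.stalk x) ^ (W x).toNat := by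
  obtain ⟨U, hU, hxU, -⟩ := exists_isAffineOpen_mem_and_subset (X := X) (x := x) (U := ⊤) trivial
  rw [IdealStalkLib.stalkIdeal_eq _ ⟨U, hU⟩ x hxU]
  refine le_antisymm (Ideal.map_le_iff_le_comap.2 fun s hs => (mem_idealOn W).1 hs x hWx hxU) fun ξ hξ => ?_
  obtain ⟨r, t, ht, hrt⟩ := exists_germ_mul hU hxU ξ
  obtain ⟨u, hu, hu'⟩ := exists_sep W hfin hU hxU
  have hmem : r * u ∈ idealOn W U := (mem_idealOn W).2 fun y hWy hy => by
    rw [map_mul]
    by_cases hyx : y ⤳ x
    · obtain rfl := hmin x y hWx hWy hyx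
      exact Ideal.mul_mem_right _ _ (hrt ▸ Ideal.mul_mem_right _ _ hξ)
    · exact Ideal.mul_mem_left _ _ (hu' y hWy hy hyx)
  have h := Ideal.mem_map_of_mem (X.presheaf.germ U x hxU).hom hmem
  rw [map_mul] at h
  exact (Ideal.mul_unit_mem_iff_mem _ ht).1 (hrt ▸ (Ideal.mul_unit_mem_iff_mem _ hu).1 h)

theorem mem_support {x : X} (hWx : W x ≠ 0) (hpos : 0 < W x) : x ∈ (cycIdeal W hfin).support := by
  by_contra hx
  obtain ⟨U, hxU, hU⟩ := IdealStalkLib.exists_unit_nhd _ hx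
  have := stalkIdeal_cycIdeal W hfin hmin hWx
  rw [IdealStalkLib.stalkIdeal_eq _ U x hxU, hU, Ideal.map_top] at this
  exact (maximalIdeal.isMaximal _).ne_top (top_le_iff.1 (this.le.trans (Ideal.pow_le_self (by omega))))

end Groth.Agent.EffCycIdLib
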