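import Groth.Agent.EffCycIdLib.Basic
/-!
Existence and uniqueness of the subscheme of an effective cycle at discrete valuation points.
-/

set_option backward.isDefEq.respectTransparency false
set_option backward.isDefEq.respectTransparency.types false

universe u

open CategoryTheory AlgebraicGeometry IsLocalRing

noncomputable section

namespace Groth.Agent.EffCycIdLib

variable {X : Scheme.{u}}

theorem dvr_min {x y : X} (hx : ∃ _ : IsDomain (X.presheaf.stalk x), IsDiscreteValuationRing (X.presheaf.stalk x))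
    (hy : ∃ _ : IsDomain (X.presheaf.stalk y), IsDiscreteValuationRing (X.presheaf.stalk y)) (h : y ⤳ x) : y = x := by
  obtain ⟨U, hU, hxU, -⟩ := exists_isAffineOpen_mem_and_subset (X := X) (x := x) (U := ⊤) trivial
  have hyU : y ∈ U := h.mem_open U.2 hxU
  by_contra hne
  have hle := (le_primeIdeal_iff hU hxU hyU).2 h
  have hlt : (hU.primeIdealOf ⟨y, hyU⟩).asIdeal < (hU.primeIdealOf ⟨x, hxU⟩).asIdeal := lt_of_le_of_ne hle fun he => hne (by
    have := congrArg hU.fromSpec (PrimeSpectrum.ext he)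
    rwa [hU.fromSpec_primeIdealOf, hU.fromSpec_primeIdealOf] at this)
  have key : ∀ z (hz : z ∈ U), (∃ _ : IsDomain (X.presheaf.stalk z), IsDiscreteValuationRing (X.presheaf.stalk z)) →
      (hU.primeIdealOf ⟨z, hz⟩).asIdeal.height = 1 := fun z hz ⟨_, hd⟩ => by
    letI : Algebra Γ(X, U) (X.presheaf.stalk z) := TopCat.Presheaf.algebra_section_stalk X.presheaf ⟨z, hz⟩
    haveI := hU.isLocalization_stalk ⟨z, hz⟩
    have h1 := IsLocalization.AtPrime.ringKrullDim_eq_height (hU.primeIdealOf ⟨z, hz⟩).asIdeal (X.presheaf.stalk z)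
    rw [IsPrincipalIdealRing.ringKrullDim_eq_one _ (IsDiscreteValuationRing.not_isField _)] at h1
    exact_mod_cast h1.symm
  haveI : (hU.primeIdealOf ⟨y, hyU⟩).asIdeal.FiniteHeight :=
    ⟨Or.inr (by rw [key y hyU hy]; exact ENat.one_ne_top)⟩
  have h2 := Ideal.height_strict_mono_of_isPrime hlt
  rw [key y hyU hy, key x hxU hx] at h2
  exact lt_irrefl _ h2

theorem length_stalk (I : X.IdealSheafData) (z : I.subscheme) :
    Module.length (I.subscheme.presheaf.stalk z) (I.subscheme.presheaf.stalk z) =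
      Module.length (X.presheaf.stalk (I.subschemeι z))
        (X.presheaf.stalk (I.subschemeι z) ⧸ IntMult.stalkIdeal I (I.subschemeι z)) := by
  letI := (I.subschemeι.stalkMap z).hom.toAlgebra
  have hsurj : Function.Surjective (algebraMap (X.presheaf.stalk (I.subschemeι z)) (I.subscheme.presheaf.stalk z)) :=
    I.subschemeι.stalkMap_surjective z
  rw [← Module.length_eq_of_surjective (M := I.subscheme.presheaf.stalk z) hsurj]
  exact (((Ideal.quotientEquivAlgOfEq _ (IdealStalkLib.ker_stalkMap_subschemeι I z).symm).trans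
    (Ideal.quotientKerAlgEquivOfSurjective (f := Algebra.ofId (X.presheaf.stalk (I.subschemeι z))
      (I.subscheme.presheaf.stalk z)) hsurj)).toLinearEquiv).length_eq.symm

/-- An ideal of a discrete valuation ring with quotient of finite length is the corresponding power. -/
theorem eq_pow_of_length {R : Type u} [CommRing R] [IsDomain R] [IsDiscreteValuationRing R] (J : Ideal R) {a : ℕ}
    (h : Module.length R (R ⧸ J) = a) : J = maximalIdeal R ^ a := by
  rcases eq_or_ne J ⊥ with rfl | hJ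
  · exfalso
    have h1 := Module.length_le_of_surjective (Submodule.factor (bot_le : (⊥ : Ideal R) ≤ maximalIdeal R ^ (a + 1)))
      (Submodule.factor_surjective _)
    rw [h, IsDiscreteValuationRing.length_quotient_pow_maximalIdeal] at h1
    exact absurd (ENat.natCast_le_natCast.1 h1) (by omega)
  · obtain ⟨ϖ, hϖ⟩ := IsDiscreteValuationRing.exists_irreducible R
    obtain ⟨n, hn⟩ := IsDiscreteValuationRing.ideal_eq_span_pow_irreducible hJ hϖ
    have hJn : J = maximalIdeal R ^ n := by rw [hn, hϖ.maximalIdeal_eq, Ideal.span_singleton_pow]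
    rw [hJn, IsDiscreteValuationRing.length_quotient_pow_maximalIdeal] at h
    rw [hJn, ENat.coe_inj.1 h]

def NoEmbedded (I : X.IdealSheafData) : Prop :=
  ∀ z : ↥I.subscheme,
    IsAssociatedPrime (IsLocalRing.maximalIdeal ↑(I.subscheme.presheaf.stalk z))
      ↑(I.subscheme.presheaf.stalk z) → ∀ z' : ↥I.subscheme, z' ⤳ z → z' = z

variable (W : X → ℤ) (hfin : {x | W x ≠ 0}.Finite) (hpos : ∀ x, 0 ≤ W x)
  (hreg : ∀ x, W x ≠ 0 → ∃ _ : IsDomain ↑(X.presheaf.stalk x), IsDiscreteValuationRing ↑(X.presheaf.stalk x))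
include hfin hpos hreg

theorem minimal_iff (z : (cycIdeal W hfin).subscheme) :
    (∀ z' : (cycIdeal W hfin).subscheme, z' ⤳ z → z' = z) ↔ W ((cycIdeal W hfin).subschemeι z) ≠ 0 := by
  let ι := (cycIdeal W hfin).subschemeι
  have hmin := fun x y hx hy h => dvr_min (x := x) (y := y) (hreg x hx) (hreg y hy) h
  have hr : ∀ w, ι w ∈ (cycIdeal W hfin).support := fun w => by
    have : ι w ∈ Set.range ι := ⟨w, rfl⟩
    rwa [Scheme.IdealSheafData.range_subschemeι] at this
  refine ⟨fun h => ?_, fun h z' hz' => ?_⟩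
  · obtain ⟨y, hy, hyz⟩ := exists_support_specializes W hfin (hr z)
    obtain ⟨zy, hzy⟩ : y ∈ Set.range ι := by
      rw [Scheme.IdealSheafData.range_subschemeι]
      exact mem_support W hfin hmin hy (lt_of_le_of_ne (hpos y) (Ne.symm hy))
    have := h zy (ι.isClosedEmbedding.isInducing.specializes_iff.1 (hzy ▸ hyz))
    exact this ▸ hzy ▸ hy
  · obtain ⟨y, hy, hyz⟩ := exists_support_specializes W hfin (hr z')
    obtain rfl := hmin _ y h hy (hyz.trans (hz'.map ι.continuous))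
    exact ι.isClosedEmbedding.injective ((hz'.map ι.continuous).antisymm hyz).eq

theorem length_cycIdeal (z : (cycIdeal W hfin).subscheme) (hz : W ((cycIdeal W hfin).subschemeι z) ≠ 0) :
    Module.length ↑((cycIdeal W hfin).subscheme.presheaf.stalk z) ↑((cycIdeal W hfin).subscheme.presheaf.stalk z) =
      ((W ((cycIdeal W hfin).subschemeι z)).toNat : ℕ∞) := by
  obtain ⟨_, _⟩ := hreg _ hz
  rw [length_stalk, stalkIdeal_cycIdeal W hfin (fun x y hx hy h => dvr_min (hreg x hx) (hreg y hy) h) hz,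
    IsDiscreteValuationRing.length_quotient_pow_maximalIdeal]

theorem noEmbedded_cycIdeal [IsLocallyNoetherian X] : NoEmbedded (cycIdeal W hfin) := by
  intro z hz
  haveI : IsNoetherianRing ((cycIdeal W hfin).subscheme.presheaf.stalk z) :=
    isNoetherianRing_of_surjective _ _ ((cycIdeal W hfin).subschemeι.stalkMap z).hom ((cycIdeal W hfin).subschemeι.stalkMap_surjective z)
  rw [minimal_iff W hfin hpos hreg z]
  by_contra hW0
  obtain ⟨hpr, ξb, hξb⟩ := isAssociatedPrime_iff.1 hz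
  obtain ⟨ξ, rfl⟩ := (cycIdeal W hfin).subschemeι.stalkMap_surjective z ξb
  let I := cycIdeal W hfin
  let x := I.subschemeι z
  have hker := IdealStalkLib.ker_stalkMap_subschemeι I z
  have hann : ∀ c ∈ maximalIdeal (X.presheaf.stalk x), c * ξ ∈ IntMult.stalkIdeal I x := fun c hc => by
    have h1 : I.subschemeι.stalkMap z c ∈ maximalIdeal (I.subscheme.presheaf.stalk z) :=
      ((mem_maximalIdeal _).2 fun hu => (mem_maximalIdeal _).1 hc ((isUnit_map_iff (I.subschemeι.stalkMap z).hom _).1 hu))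
    rw [hξb, Submodule.mem_colon_singleton, Submodule.mem_bot, smul_eq_mul, ← map_mul] at h1
    rw [← hker, RingHom.mem_ker]
    exact h1
  have hξ : ξ ∉ IntMult.stalkIdeal I x := fun h => by
    rw [← hker, RingHom.mem_ker] at h
    refine (maximalIdeal.isMaximal (I.subscheme.presheaf.stalk z)).ne_top ?_
    rw [hξb, Ideal.eq_top_iff_one, Submodule.mem_colon_singleton, one_smul, Submodule.mem_bot]
    exact h
  obtain ⟨U, hU, hxU, -⟩ := exists_isAffineOpen_mem_and_subset (X := X) (x := x) (U := ⊤) trivial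
  obtain ⟨r, t, ht, hrt⟩ := exists_germ_mul hU hxU ξ
  obtain ⟨u, hu, hu'⟩ := exists_sep W hfin hU hxU
  have hmem : r * u ∈ idealOn W U := (mem_idealOn W).2 fun y hWy hy => by
    rw [map_mul]
    by_cases hyx : y ⤳ x
    · refine Ideal.mul_mem_right _ _ ?_
      obtain ⟨v, hv, hv'⟩ := SetLike.not_le_iff_exists.1 (mt (le_primeIdeal_iff hU hy hxU).1 fun hxy =>
        (show W x ≠ 0 from (hxy.antisymm hyx).eq ▸ hWy) hW0)
      have h1 := hann _ ((mem_prime_iff hU hxU v).1 hv)
      have h2 : X.presheaf.germ U x hxU (v * r) ∈ (I.ideal ⟨U, hU⟩).map (X.presheaf.germ U x hxU).hom := by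
        rw [← IdealStalkLib.stalkIdeal_eq I ⟨U, hU⟩ x hxU, map_mul, ← hrt, ← mul_assoc]
        exact Ideal.mul_mem_right _ _ h1
      obtain ⟨w, hw, hwm⟩ := exists_mul_mem hU hxU _ h2
      have h3 := (mem_idealOn W).1 hwm y hWy hy
      have hwy : IsUnit (X.presheaf.germ U y hy w) := notMem_maximalIdeal.1 fun h =>
        (mem_maximalIdeal _).1 ((mem_prime_iff hU hxU w).1 ((le_primeIdeal_iff hU hxU hy).2 hyx ((mem_prime_iff hU hy w).2 h))) hw
      have hvy : IsUnit (X.presheaf.germ U y hy v) := notMem_maximalIdeal.1 fun h => hv' ((mem_prime_iff hU hy v).2 h)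
      rw [map_mul, map_mul, ← mul_assoc] at h3
      exact (Ideal.unit_mul_mem_iff_mem _ (hwy.mul hvy)).1 h3
    · exact Ideal.mul_mem_left _ _ (hu' y hWy hy hyx)
  refine hξ ?_
  have h4 := Ideal.mem_map_of_mem (X.presheaf.germ U x hxU).hom (show r * u ∈ I.ideal ⟨U, hU⟩ from hmem)
  rw [← IdealStalkLib.stalkIdeal_eq I ⟨U, hU⟩ x hxU, map_mul] at h4
  exact (Ideal.mul_unit_mem_iff_mem _ ht).1 (hrt ▸ (Ideal.mul_unit_mem_iff_mem _ hu).1 h4)

theorem eq_cycIdeal [IsLocallyNoetherian X] (I : X.IdealSheafData) (h1 : NoEmbedded I)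
    (h2 : ∀ z : ↥I.subscheme, (∀ z' : ↥I.subscheme, z' ⤳ z → z' = z) →
        Module.length ↑(I.subscheme.presheaf.stalk z) ↑(I.subscheme.presheaf.stalk z) =
          ((W (I.subschemeι.base z)).toNat : ℕ∞))
    (h3 : ∀ x : X, W x ≠ 0 → ∃ z : ↥I.subscheme, I.subschemeι.base z = x ∧
        ∀ z' : ↥I.subscheme, z' ⤳ z → z' = z) : I = cycIdeal W hfin := by
  have hst : ∀ y, W y ≠ 0 → IntMult.stalkIdeal I y = maximalIdeal (X.presheaf.stalk y) ^ (W y).toNat := fun y hy => by
    obtain ⟨_, _⟩ := hreg y hy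
    obtain ⟨z, hz, hzmin⟩ := h3 y hy
    subst hz
    exact eq_pow_of_length _ ((length_stalk I z).symm.trans (h2 z hzmin))
  refine Scheme.IdealSheafData.ext (funext fun U => le_antisymm (fun s hs => ?_) fun s hs => ?_)
  · refine (mem_idealOn W).2 fun y hWy hy => ?_
    rw [← hst y hWy, IdealStalkLib.stalkIdeal_eq I U y hy]
    exact Ideal.mem_map_of_mem _ hs
  obtain ⟨U, hU⟩ := U
  rw [cycIdeal_ideal] at hs
  by_contra hne
  haveI : IsNoetherianRing Γ(X, U) := IsLocallyNoetherian.component_noetherian ⟨U, hU⟩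
  obtain ⟨P, hP, hle⟩ := exists_le_isAssociatedPrime_of_isNoetherianRing Γ(X, U) (Ideal.Quotient.mk (I.ideal ⟨U, hU⟩) s)
    (fun h => hne (Ideal.Quotient.eq_zero_iff_mem.1 h))
  obtain ⟨hPp, tb, htb⟩ := isAssociatedPrime_iff.1 hP
  obtain ⟨t, rfl⟩ := Ideal.Quotient.mk_surjective tb
  have hmemP : ∀ r, r ∈ P ↔ r * t ∈ I.ideal ⟨U, hU⟩ := fun r => by
    rw [htb, Submodule.mem_colon_singleton, Submodule.mem_bot, ← Ideal.Quotient.eq_zero_iff_mem]
    rfl
  set x := hU.fromSpec ⟨P, hPp⟩ with hx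
  have hxU : x ∈ U := (hU.isoSpec.inv _).2
  have hpx : (hU.primeIdealOf ⟨x, hxU⟩).asIdeal = P :=
    congrArg PrimeSpectrum.asIdeal (hU.fromSpec.isOpenEmbedding.injective ((hU.fromSpec_primeIdealOf _).trans hx) :
      hU.primeIdealOf ⟨x, hxU⟩ = ⟨P, hPp⟩)
  have hP_iff : ∀ r, r ∈ P ↔ X.presheaf.germ U x hxU r ∈ maximalIdeal (X.presheaf.stalk x) := fun r =>
    hpx ▸ mem_prime_iff hU hxU r
  have hxs : x ∈ I.support := by
    rw [Scheme.IdealSheafData.mem_support_iff_of_mem (U := ⟨U, hU⟩) hxU, Scheme.mem_zeroLocus_iff]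
    intro r hr hxr
    exact (mem_maximalIdeal _).1 ((hP_iff r).1 ((hmemP r).2 (Ideal.mul_mem_right _ _ hr))) ((X.mem_basicOpen r x hxU).1 hxr)
  obtain ⟨z, hz⟩ : x ∈ Set.range I.subschemeι := by rwa [Scheme.IdealSheafData.range_subschemeι]
  have hzU : I.subschemeι z ∈ U := hz ▸ hxU
  have hP' : ∀ r, r ∈ P ↔ X.presheaf.germ U (I.subschemeι z) hzU r ∈ maximalIdeal (X.presheaf.stalk (I.subschemeι z)) := by
    have key : ∀ w (hw : w = x) (hwU : w ∈ U), ∀ r, r ∈ P ↔ X.presheaf.germ U w hwU r ∈ maximalIdeal (X.presheaf.stalk w) := by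
      rintro w rfl _; exact hP_iff
    exact key _ hz hzU
  let σ := (I.subschemeι.stalkMap z).hom
  have hker : RingHom.ker σ = (I.ideal ⟨U, hU⟩).map (X.presheaf.germ U (I.subschemeι z) hzU).hom :=
    (IdealStalkLib.ker_stalkMap_subschemeι I z).trans (IdealStalkLib.stalkIdeal_eq I ⟨U, hU⟩ _ hzU)
  have hassoc : IsAssociatedPrime (maximalIdeal (I.subscheme.presheaf.stalk z)) (I.subscheme.presheaf.stalk z) := by
    haveI : IsNoetherianRing (I.subscheme.presheaf.stalk z) :=
      isNoetherianRing_of_surjective _ _ σ (I.subschemeι.stalkMap_surjective z)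
    refine isAssociatedPrime_iff.2 ⟨inferInstance, σ (X.presheaf.germ U _ hzU t), le_antisymm (fun c hc => ?_) (le_maximalIdeal ?_)⟩
    · obtain ⟨c, rfl⟩ := I.subschemeι.stalkMap_surjective z c
      have hcm : c ∈ maximalIdeal (X.presheaf.stalk (I.subschemeι z)) :=
        (mem_maximalIdeal _).2 fun hu => (mem_maximalIdeal _).1 hc (hu.map σ)
      obtain ⟨r, w, hw, hrw⟩ := exists_germ_mul hU hzU c
      rw [Submodule.mem_colon_singleton, Submodule.mem_bot, smul_eq_mul]
      show σ c * σ (X.presheaf.germ U _ hzU t) = 0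
      rw [← map_mul, ← RingHom.mem_ker, hker]
      have hr : r * t ∈ I.ideal ⟨U, hU⟩ := (hmemP r).1 ((hP' r).2 (hrw ▸ Ideal.mul_mem_right _ _ hcm))
      have h5 := Ideal.mem_map_of_mem (X.presheaf.germ U (I.subschemeι z) hzU).hom hr
      rw [map_mul, ← hrw, mul_right_comm] at h5
      exact (Ideal.mul_unit_mem_iff_mem _ hw).1 h5
    · intro htop
      have h0 : (1 : I.subscheme.presheaf.stalk z) ∈ (⊥ : Submodule (I.subscheme.presheaf.stalk z) _).colon {σ (X.presheaf.germ U _ hzU t)} := htop ▸ trivial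
      rw [Submodule.mem_colon_singleton, one_smul, Submodule.mem_bot, ← RingHom.mem_ker, hker] at h0
      obtain ⟨w, hw, hwt⟩ := exists_mul_mem hU hzU _ h0
      exact (mem_maximalIdeal _).1 ((hP' w).1 ((hmemP w).2 hwt)) hw
  have hWx : W (I.subschemeι z) ≠ 0 := fun h0 => by
    have h6 := h2 z (h1 z hassoc)
    rw [show W (I.subschemeι.base z) = 0 from h0, Int.toNat_zero, Nat.cast_zero, Module.length_eq_zero_iff] at h6
    exact not_subsingleton _ h6
  have h7 := (mem_idealOn W).1 hs _ hWx hzU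
  rw [← hst _ hWx, IdealStalkLib.stalkIdeal_eq I ⟨U, hU⟩ _ hzU] at h7
  obtain ⟨w, hw, hws⟩ := exists_mul_mem hU hzU _ h7
  refine (mem_maximalIdeal _).1 ((hP' w).1 (hle ?_)) hw
  rw [Submodule.mem_colon_singleton, Submodule.mem_bot]
  show Ideal.Quotient.mk _ (w * s) = 0
  rwa [Ideal.Quotient.eq_zero_iff_mem]

theorem existsUnique_cycle_ideal [IsLocallyNoetherian X] :
    ∃! 𝓘 : X.IdealSheafData,
      (∀ z : ↥𝓘.subscheme,
        IsAssociatedPrime (IsLocalRing.maximalIdeal ↑(𝓘.subscheme.presheaf.stalk z))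
          ↑(𝓘.subscheme.presheaf.stalk z) → ∀ z' : ↥𝓘.subscheme, z' ⤳ z → z' = z) ∧
      (∀ z : ↥𝓘.subscheme, (∀ z' : ↥𝓘.subscheme, z' ⤳ z → z' = z) →
        Module.length ↑(𝓘.subscheme.presheaf.stalk z) ↑(𝓘.subscheme.presheaf.stalk z) =
          ((W (𝓘.subschemeι.base z)).toNat : ℕ∞)) ∧
      (∀ x : X, W x ≠ 0 → ∃ z : ↥𝓘.subscheme, 𝓘.subschemeι.base z = x ∧
        ∀ z' : ↥𝓘.subscheme, z' ⤳ z → z' = z) := by
  refine ⟨cycIdeal W hfin, ⟨noEmbedded_cycIdeal W hfin hpos hreg, fun z hz =>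
    length_cycIdeal W hfin hpos hreg z ((minimal_iff W hfin hpos hreg z).1 hz), fun x hx => ?_⟩,
    fun I hI => eq_cycIdeal W hfin hpos hreg I hI.1 hI.2.1 hI.2.2⟩
  obtain ⟨z, hz⟩ : x ∈ Set.range (cycIdeal W hfin).subschemeι := by
    rw [Scheme.IdealSheafData.range_subschemeι]
    exact mem_support W hfin (fun a b ha hb h => dvr_min (hreg a ha) (hreg b hb) h) hx (lt_of_le_of_ne (hpos x) (Ne.symm hx))
  exact ⟨z, hz, (minimal_iff W hfin hpos hreg z).2 (hz ▸ hx)⟩

end Groth.Agent.EffCycIdLib
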